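import Cfsg.Agent.H151.OC2.Comb

/-!
# Characters of order five of `Kˣ × Kˣ` (helper151)
-/

set_option autoImplicit false

namespace Cfsg.Agent.H151.OC2

/-- the characters of `ℤ/5` -/
noncomputable def eps : Multiplicative (ZMod 5) →* ℂˣ := (ZMod.stdAddChar (N := 5)).toMonoidHom.toHomUnits

theorem eps_val (c : ZMod 5) : ((eps (Multiplicative.ofAdd c) : ℂˣ) : ℂ) = ZMod.stdAddChar (N := 5) c := rfl

theorem eps_inj : Function.Injective eps := by
  intro a b hab
  apply Multiplicative.toAdd.injective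
  apply ZMod.injective_stdAddChar
  exact congrArg Units.val hab

theorem eps_surj {z : ℂˣ} (hz : z ^ 5 = 1) : ∃ c : ZMod 5, eps (Multiplicative.ofAdd c) = z := by
  have : Fact (Nat.Prime 5) := ⟨by norm_num⟩
  have h1 : eps (Multiplicative.ofAdd 1) ^ 5 = 1 := by
    rw [← map_pow, ← map_one eps]
    congr 1
    exact Multiplicative.toAdd.injective (by
      rw [toAdd_pow, toAdd_ofAdd, nsmul_eq_mul, mul_one, toAdd_one]
      exact ZMod.natCast_self 5)
  have h2 : eps (Multiplicative.ofAdd 1) ≠ 1 := by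
    intro h
    rw [← map_one eps] at h
    have h3 := congrArg Multiplicative.toAdd (eps_inj h)
    exact one_ne_zero (α := ZMod 5) h3
  have h3 : IsPrimitiveRoot (eps (Multiplicative.ofAdd (1 : ZMod 5))) 5 := by
    have h4 := IsPrimitiveRoot.orderOf (eps (Multiplicative.ofAdd (1 : ZMod 5)))
    rwa [orderOf_eq_prime h1 h2] at h4
  have h4 : IsPrimitiveRoot ((eps (Multiplicative.ofAdd 1) : ℂˣ) : ℂ) 5 := IsPrimitiveRoot.coe_units_iff.2 h3
  obtain ⟨i, -, hi⟩ := h4.eq_pow_of_pow_eq_one (ξ := (z : ℂ)) (by rw [← Units.val_pow_eq_pow_val, hz, Units.val_one])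
  refine ⟨(i : ZMod 5), Units.ext ?_⟩
  rw [← hi, ← Units.val_pow_eq_pow_val, ← map_pow]
  congr 2
  apply Multiplicative.toAdd.injective
  simp

variable {K : Type*} [CommGroup K] (κ : K →* Multiplicative (ZMod 5))

/-- the characters of `K × K` -/
noncomputable def chl (v : V5) : (Fin 2 → K) →* ℂˣ where
  toFun l := eps (Multiplicative.ofAdd (v.1 * Multiplicative.toAdd (κ (l 0)) + v.2 * Multiplicative.toAdd (κ (l 1))))
  map_one' := by
    simp
  map_mul' a b := by
    rw [← map_mul, ← ofAdd_add]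
    congr 2
    rw [Pi.mul_apply, Pi.mul_apply, map_mul κ, map_mul κ, toAdd_mul, toAdd_mul]
    ring

theorem chl_apply (v : V5) (l : Fin 2 → K) : chl κ v l =
    eps (Multiplicative.ofAdd (v.1 * Multiplicative.toAdd (κ (l 0)) + v.2 * Multiplicative.toAdd (κ (l 1)))) := rfl

theorem chl_pow (v : V5) (k : ℕ) (l : Fin 2 → K) : chl κ v l ^ k = chl κ (k • v) l := by
  rw [chl_apply, chl_apply, ← map_pow, ← ofAdd_nsmul]
  congr 2
  rw [nsmul_eq_mul, Prod.smul_fst, Prod.smul_snd, nsmul_eq_mul, nsmul_eq_mul]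
  ring

variable {κ} {g : K} (hκ : κ g = Multiplicative.ofAdd 1)

include hκ

theorem chl_inj : Function.Injective (chl κ) := by
  intro v v' h
  have h1 := congrArg (fun f => f (Function.update 1 0 g : Fin 2 → K)) h
  have h2 := congrArg (fun f => f (Function.update 1 1 g : Fin 2 → K)) h
  simp only [chl_apply] at h1 h2
  have h3 := Multiplicative.ofAdd.injective (eps_inj h1)
  have h4 := Multiplicative.ofAdd.injective (eps_inj h2)
  simp [hκ] at h3 h4
  exact Prod.ext h3 h4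

theorem chl_surj (hg : ∀ x, x ∈ Subgroup.zpowers g) (μ : (Fin 2 → K) →* ℂˣ) (hμ : ∀ l, μ l ^ 5 = 1) :
    ∃ v, μ = chl κ v := by
  obtain ⟨a, ha⟩ := eps_surj (hμ (Pi.mulSingle 0 g))
  obtain ⟨b, hb⟩ := eps_surj (hμ (Pi.mulSingle 1 g))
  refine ⟨(a, b), MonoidHom.functions_ext' _ _ _ fun i => ?_⟩
  rw [MonoidHom.eq_iff_eq_on_generator hg]
  change μ (Pi.mulSingle i g) = chl κ (a, b) (Pi.mulSingle i g)
  have hi : i = 0 ∨ i = 1 := by fin_cases i <;> simp
  rcases hi with rfl | rfl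
  · rw [← ha, chl_apply]
    simp [hκ]
  · rw [← hb, chl_apply]
    simp [hκ]

omit hκ in
theorem exists_kappa (hg : ∀ x, x ∈ Subgroup.zpowers g) (h5 : 5 ∣ orderOf g) :
    ∃ κ : K →* Multiplicative (ZMod 5), κ g = Multiplicative.ofAdd 1 := by
  have h1 : orderOf (Multiplicative.ofAdd (1 : ZMod 5)) ∣ orderOf g := by
    refine dvd_trans (orderOf_dvd_of_pow_eq_one ?_) h5
    rfl
  exact ⟨monoidHomOfForallMemZpowers hg h1, monoidHomOfForallMemZpowers_apply_gen hg h1⟩

omit hκ in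
/-- the two reflections -/
theorem chl_zero (v : V5) (l l' : Fin 2 → K) (h0 : l' 0 = l 1) (h1 : l' 1 = l 0) :
    chl κ v l' = chl κ (rv 0 v) l := by
  rw [chl_apply, chl_apply, h0, h1]
  congr 2
  change _ = v.2 * _ + v.1 * _
  ring

omit hκ in
theorem chl_one (v : V5) (l l' : Fin 2 → K) (h0 : l' 0 = l 0) (h1 : l' 1 = (l 1)⁻¹) :
    chl κ v l' = chl κ (rv 1 v) l := by
  rw [chl_apply, chl_apply, h0, h1]
  congr 2
  change _ = v.1 * _ + (-v.2) * _
  rw [map_inv, toAdd_inv]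
  ring

end Cfsg.Agent.H151.OC2
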