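import Mathlib

/-!
# S4829, `Row2`, `Sp_4(2^f)` with `4 ∣ f`: the Weyl group on `(ℤ/5)²` (helper151)
-/

set_option autoImplicit false

namespace Cfsg.Agent.H151.OC2

/-- `(ℤ/5)²` -/
abbrev V5 : Type := ZMod 5 × ZMod 5

/-- the two reflections -/
def rf (i : Fin 2) (v : V5) : V5 := if i = 0 then (v.2, v.1) else (v.1, -v.2)

theorem rf_rf (i : Fin 2) : Function.Involutive (rf i) := by
  revert i
  unfold Function.Involutive
  decide

/-- the two reflections as permutations -/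
def rv (i : Fin 2) : Equiv.Perm V5 := (rf_rf i).toPerm

theorem rv_apply (i : Fin 2) (v : V5) : rv i v = rf i v := rfl

theorem liftable5 : (CoxeterMatrix.B 2).IsLiftable rv := by
  intro i j
  ext1 v
  revert i j v
  have h00 : CoxeterMatrix.B 2 0 0 = 1 := by decide
  have h01 : CoxeterMatrix.B 2 0 1 = 4 := by decide
  have h10 : CoxeterMatrix.B 2 1 0 = 4 := by decide
  have h11 : CoxeterMatrix.B 2 1 1 = 1 := by decide
  intro i j v
  fin_cases i <;> fin_cases j
  · change ((rv 0 * rv 0) ^ (CoxeterMatrix.B 2 0 0)) v = v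
    rw [h00]
    revert v
    decide
  · change ((rv 0 * rv 1) ^ (CoxeterMatrix.B 2 0 1)) v = v
    rw [h01]
    revert v
    decide
  · change ((rv 1 * rv 0) ^ (CoxeterMatrix.B 2 1 0)) v = v
    rw [h10]
    revert v
    decide
  · change ((rv 1 * rv 1) ^ (CoxeterMatrix.B 2 1 1)) v = v
    rw [h11]
    revert v
    decide

/-- the vectors with trivial stabiliser -/
def Om (v : V5) : Prop := v.1 ≠ 0 ∧ v.2 ≠ 0 ∧ v.1 ≠ v.2 ∧ v.1 ≠ -v.2

instance : DecidablePred Om := fun v => by unfold Om; infer_instance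

theorem Om_one_two : Om (1, 2) := by decide

theorem Om_smul {v : V5} (hv : Om v) {k : ℕ} (hk : ¬ 5 ∣ k) : Om (k • v) := by
  have h1 : (k : ZMod 5) ≠ 0 := fun h => hk ((ZMod.natCast_eq_zero_iff k 5).1 h)
  have h2 : k • v = ((k : ZMod 5) * v.1, (k : ZMod 5) * v.2) := by
    ext <;> simp
  rw [h2]
  have h3 : ∀ c : ZMod 5, c ≠ 0 → ∀ v : V5, Om v → Om (c * v.1, c * v.2) := by decide
  exact h3 _ h1 v hv

variable {W : Type*} [Group W] (cs : CoxeterSystem (CoxeterMatrix.B 2) W)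

/-- the action of `W` -/
noncomputable def pi5 : W →* Equiv.Perm V5 := cs.lift ⟨rv, liftable5⟩

theorem pi5_simple (i : Fin 2) : pi5 cs (cs.simple i) = rv i := cs.lift_apply_simple liftable5 i

theorem mem8 (w : W) : ∃ l ∈ ([[], [0], [1], [0, 1], [1, 0], [0, 1, 0], [1, 0, 1], [0, 1, 0, 1]] : List (List (Fin 2))),
    w = cs.wordProd l := by
  have e0 : cs.simple 0 * cs.simple 0 = 1 := cs.simple_mul_simple_self 0
  have e1 : cs.simple 1 * cs.simple 1 = 1 := cs.simple_mul_simple_self 1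
  have e4 : (cs.simple 0 * cs.simple 1) ^ 4 = 1 := by
    have h1 := cs.simple_mul_simple_pow 0 1
    have h2 : CoxeterMatrix.B 2 0 1 = 4 := by decide
    rwa [h2] at h1
  have e5 : cs.simple 1 * (cs.simple 0 * (cs.simple 1 * cs.simple 0)) =
      cs.simple 0 * (cs.simple 1 * (cs.simple 0 * cs.simple 1)) := by
    generalize cs.simple 0 = s at *
    generalize cs.simple 1 = t at *
    have h1 : (s * t * s * t) * (s * t * s * t) = 1 := by
      rw [← e4]
      simp only [pow_succ, pow_zero, one_mul, mul_assoc]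
    have h2 : (s * t * s * t) * (t * s * t * s) = 1 := by
      calc (s * t * s * t) * (t * s * t * s) = s * t * s * (t * t) * s * t * s := by group
        _ = s * t * (s * s) * t * s := by rw [e1]; group
        _ = s * (t * t) * s := by rw [e0]; group
        _ = 1 := by rw [e1, mul_one, e0]
    have h3 := mul_left_cancel (h2.trans h1.symm)
    calc t * (s * (t * s)) = t * s * t * s := by group
      _ = s * t * s * t := h3
      _ = s * (t * (s * t)) := by group
  have c0 : ∀ x : W, cs.simple 0 * (cs.simple 0 * x) = x := fun x => by rw [← mul_assoc, e0, one_mul]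
  have c1 : ∀ x : W, cs.simple 1 * (cs.simple 1 * x) = x := fun x => by rw [← mul_assoc, e1, one_mul]
  have e6 : cs.simple 1 * (cs.simple 0 * (cs.simple 1 * (cs.simple 0 * cs.simple 1))) =
      cs.simple 0 * (cs.simple 1 * cs.simple 0) := by
    have h1 := congrArg (fun x => x * cs.simple 1) e5
    simp only [mul_assoc] at h1
    rw [h1, e1, mul_one]
  refine cs.simple_induction_left (p := fun w => ∃ l ∈ ([[], [0], [1], [0, 1], [1, 0], [0, 1, 0], [1, 0, 1],
    [0, 1, 0, 1]] : List (List (Fin 2))), w = cs.wordProd l) w ⟨[], by simp, by simp⟩ ?_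
  rintro w i ⟨l, hl, rfl⟩
  have hi : i = 0 ∨ i = 1 := by fin_cases i <;> simp
  simp only [List.mem_cons, List.not_mem_nil, or_false] at hl
  rcases hi with rfl | rfl <;> rcases hl with rfl | rfl | rfl | rfl | rfl | rfl | rfl | rfl <;>
    simp only [List.mem_cons, List.not_mem_nil, or_false, exists_eq_or_imp, exists_eq_left,
      CoxeterSystem.wordProd_cons, CoxeterSystem.wordProd_nil, mul_one, c0, c1, e0, e1, e5, e6, true_or, or_true]

/-- the stabiliser of `(1, 2)` is trivial -/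
theorem eq_one_of_fix {w : W} (h : pi5 cs w (1, 2) = (1, 2)) : w = 1 := by
  obtain ⟨l, hl, rfl⟩ := mem8 cs w
  simp only [List.mem_cons, List.not_mem_nil, or_false] at hl
  rcases hl with rfl | rfl | rfl | rfl | rfl | rfl | rfl | rfl
  · simp
  all_goals
    exfalso
    revert h
    simp only [CoxeterSystem.wordProd_cons, CoxeterSystem.wordProd_nil, mul_one, map_mul, pi5_simple]
    decide

theorem exists_trans {v : V5} (hv : Om v) : ∃ w : W, pi5 cs w (1, 2) = v := by
  have key : ∀ v : V5, Om v → v = (1, 2) ∨ v = rv 0 (1, 2) ∨ v = rv 1 (1, 2) ∨ v = (rv 0 * rv 1) (1, 2) ∨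
      v = (rv 1 * rv 0) (1, 2) ∨ v = (rv 0 * (rv 1 * rv 0)) (1, 2) ∨ v = (rv 1 * (rv 0 * rv 1)) (1, 2) ∨
      v = (rv 0 * (rv 1 * (rv 0 * rv 1))) (1, 2) := by decide
  have hs := pi5_simple cs
  rcases key v hv with h | h | h | h | h | h | h | h <;> rw [h]
  · exact ⟨1, by rw [map_one]; rfl⟩
  · exact ⟨cs.simple 0, by rw [hs]⟩
  · exact ⟨cs.simple 1, by rw [hs]⟩
  · exact ⟨cs.simple 0 * cs.simple 1, by rw [map_mul, hs, hs]⟩
  · exact ⟨cs.simple 1 * cs.simple 0, by rw [map_mul, hs, hs]⟩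
  · exact ⟨cs.simple 0 * (cs.simple 1 * cs.simple 0), by rw [map_mul, map_mul, hs, hs]⟩
  · exact ⟨cs.simple 1 * (cs.simple 0 * cs.simple 1), by rw [map_mul, map_mul, hs, hs]⟩
  · exact ⟨cs.simple 0 * (cs.simple 1 * (cs.simple 0 * cs.simple 1)), by rw [map_mul, map_mul, map_mul, hs, hs]⟩

theorem pinv (e : Equiv.Perm V5) (v : V5) : e⁻¹ (e v) = v := by simp

theorem exists_trans' {v v' : V5} (hv : Om v) (hv' : Om v') : ∃ w : W, pi5 cs w v' = v := by
  obtain ⟨a, ha⟩ := exists_trans cs hv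
  obtain ⟨b, hb⟩ := exists_trans cs hv'
  refine ⟨a * b⁻¹, ?_⟩
  rw [map_mul, map_inv, ← hb, Equiv.Perm.mul_apply, pinv, ha]

theorem stab_eq {v : V5} (hv : Om v) : {w : W | pi5 cs w v = v} = {1} := by
  obtain ⟨a, ha⟩ := exists_trans cs hv
  ext w
  simp only [Set.mem_ofPred_eq, Set.mem_singleton_iff]
  constructor
  · intro hw
    have h1 : pi5 cs (a⁻¹ * w * a) (1, 2) = (1, 2) := by
      rw [map_mul, map_mul, map_inv, Equiv.Perm.mul_apply, Equiv.Perm.mul_apply, ha, hw, ← ha, pinv]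
    have h2 := eq_one_of_fix cs h1
    have h3 : w = a * (a⁻¹ * w * a) * a⁻¹ := by group
    rw [h3, h2]
    group
  · rintro rfl
    rw [map_one]
    rfl

theorem exists_fix {v : V5} (hv : ¬ Om v) : ∃ w : W, w ≠ 1 ∧ pi5 cs w v = v := by
  have key : ∀ v : V5, ¬ Om v → rv 0 v = v ∨ rv 1 v = v ∨ (rv 0 * (rv 1 * rv 0)) v = v ∨
      (rv 1 * (rv 0 * rv 1)) v = v := by decide
  have hs := pi5_simple cs
  have hne : ∀ w : W, pi5 cs w (1, 2) ≠ (1, 2) → w ≠ 1 := by
    rintro w h1 rfl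
    exact h1 (by rw [map_one]; rfl)
  rcases key v hv with h | h | h | h
  · exact ⟨cs.simple 0, hne _ (by rw [hs]; decide), by rw [hs, h]⟩
  · exact ⟨cs.simple 1, hne _ (by rw [hs]; decide), by rw [hs, h]⟩
  · exact ⟨cs.simple 0 * (cs.simple 1 * cs.simple 0), hne _ (by rw [map_mul, map_mul, hs, hs]; decide),
      by rw [map_mul, map_mul, hs, hs, h]⟩
  · exact ⟨cs.simple 1 * (cs.simple 0 * cs.simple 1), hne _ (by rw [map_mul, map_mul, hs, hs]; decide),
      by rw [map_mul, map_mul, hs, hs, h]⟩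

theorem ncard_ne_one [Finite W] {v : V5} (hv : ¬ Om v) : {w : W | pi5 cs w v = v}.ncard ≠ 1 := by
  intro h
  obtain ⟨x, hx⟩ := Set.ncard_eq_one.1 h
  obtain ⟨w, hw1, hw⟩ := exists_fix cs hv
  have h1 : w ∈ ({x} : Set W) := by rw [← hx]; exact hw
  have h2 : (1 : W) ∈ ({x} : Set W) := by rw [← hx]; change pi5 cs 1 v = v; rw [map_one]; rfl
  exact hw1 (h1.trans h2.symm)

end Cfsg.Agent.H151.OC2
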