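import Cfsg.Agent.H151.OC2.Comb
import Cfsg.Agent.H151.OC.Ss
import Cfsg.Agent.H76.OC.AutP
import Cfsg.Agent.H655.R2.Ind

/-!
# S4829, `Row2`, `Sp_4(2^f)` with `4 ∣ f`: the abstract part (helper151)

`Tor5 T n ch` : the linear characters of order dividing five of the torus `T` are the `ch v`, `v ∈ (ℤ/5)²`, and the
representatives `n 0`, `n 1` act as the two reflections `rv 0`, `rv 1`.

* `row2_of_tor5` : then `Y` has `Row2`: the induced character of `ch v`, `v = (1, 2)` up to the Weyl group, is irreducible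
  and fixed by `Gal × Aut`.
-/

set_option autoImplicit false
set_option linter.unusedSectionVars false

namespace Cfsg.Agent.H151.OC2

open Cfsg Cfsg.Agent.Characters Cfsg.Agent.H770.CY
open Cfsg.Agent.H53.HC Cfsg.Agent.H641.Gow Cfsg.Agent.H148.GG Cfsg.Agent.H684.OQ Cfsg.Agent.H381.OQ Cfsg.Agent.H151.OC

open CoxeterSystem Cfsg.Agent.ChevalleyStructure.CoxeterGeom Cfsg.Agent.Tits.Roots Cfsg.Agent.Tits.Core
  Cfsg.Agent.Tits.Exchange Cfsg.Agent.Nodes.Reps Cfsg.Agent.Nodes.BNOf Cfsg.Agent.Nodes.StabComb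
  Cfsg.Agent.Nodes.Bruhat Cfsg.Agent.Nodes.OppDec Cfsg.Agent.Nodes.LeviDec

universe u

/-! ### induced functions -/

section Ind

variable {G : Type u} [Group G] [Fintype G]

/-- induced functions along an automorphism preserving `B` -/
theorem indFun_aut' {B : Subgroup G} {f f' : ↥B → ℂ} (σ : G ≃* G) (hB : ∀ x, σ x ∈ B ↔ x ∈ B)
    (hf : ∀ x (hx : x ∈ B) (hx' : σ x ∈ B), f ⟨σ x, hx'⟩ = f' ⟨x, hx⟩) (g : G) : indFun B f (σ g) = indFun B f' g := by
  change (Nat.card B : ℂ)⁻¹ * ∑ x : G, extendByZero B f (x⁻¹ * σ g * x) =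
    (Nat.card B : ℂ)⁻¹ * ∑ x : G, extendByZero B f' (x⁻¹ * g * x)
  congr 1
  rw [← σ.toEquiv.sum_comp]
  refine Finset.sum_congr rfl fun x _ => ?_
  have h1 : (σ x)⁻¹ * σ g * σ x = σ (x⁻¹ * g * x) := by rw [map_mul, map_mul, map_inv]
  change extendByZero B f ((σ x)⁻¹ * σ g * σ x) = _
  rw [h1]
  generalize x⁻¹ * g * x = y
  by_cases h : y ∈ B
  · have h' := (hB y).2 h
    have h1 : extendByZero B f' ((⟨y, h⟩ : B) : G) = f' ⟨y, h⟩ := Subtype.val_injective.extend_apply _ _ _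
    have h2 : extendByZero B f ((⟨σ y, h'⟩ : B) : G) = f ⟨σ y, h'⟩ := Subtype.val_injective.extend_apply _ _ _
    exact (h2.trans (hf y h h')).trans h1.symm
  · have h' : σ y ∉ B := fun h' => h ((hB y).1 h')
    have h1 : extendByZero B f' y = 0 := Function.extend_apply' _ _ _ (by rintro ⟨a, rfl⟩; exact h a.2)
    have h2 : extendByZero B f (σ y) = 0 := Function.extend_apply' _ _ _ (by rintro ⟨a, ha⟩; exact h' (ha ▸ a.2))
    rw [h1, h2]

/-- induced functions along a power map -/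
theorem indFun_pow' {B : Subgroup G} {f f' : ↥B → ℂ} {k : ℕ} (hk : k.Coprime (Nat.card G))
    (hf : ∀ b : ↥B, f (b ^ k) = f' b) (g : G) : indFun B f (g ^ k) = indFun B f' g := by
  change (Nat.card B : ℂ)⁻¹ * ∑ x : G, extendByZero B f (x⁻¹ * g ^ k * x) =
    (Nat.card B : ℂ)⁻¹ * ∑ x : G, extendByZero B f' (x⁻¹ * g * x)
  congr 1
  refine Finset.sum_congr rfl fun x _ => ?_
  have h1 := conj_pow (i := k) (a := x⁻¹) (b := g)
  rw [inv_inv] at h1
  rw [← h1]
  generalize x⁻¹ * g * x = y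
  by_cases h : y ∈ B
  · have h' : y ^ k ∈ B := pow_mem h k
    have h1 : extendByZero B f' ((⟨y, h⟩ : B) : G) = f' ⟨y, h⟩ := Subtype.val_injective.extend_apply _ _ _
    have h2 : extendByZero B f ((⟨y ^ k, h'⟩ : B) : G) = f ⟨y ^ k, h'⟩ := Subtype.val_injective.extend_apply _ _ _
    exact (h2.trans (hf ⟨y, h⟩)).trans h1.symm
  · have h' : y ^ k ∉ B := fun h' => h ((pow_mem_iff hk B y).1 h')
    have h1 : extendByZero B f' y = 0 := Function.extend_apply' _ _ _ (by rintro ⟨a, rfl⟩; exact h a.2)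
    have h2 : extendByZero B f (y ^ k) = 0 := Function.extend_apply' _ _ _ (by rintro ⟨a, ha⟩; exact h' (ha ▸ a.2))
    rw [h1, h2]

end Ind

/-! ### the torus -/

/-- the linear characters of order dividing five of the torus and the action of the two representatives -/
structure Tor5 {Y : Type u} [Group Y] (T : Subgroup Y) (n : Fin 2 → Y) (ch : V5 → (↥T →* ℂˣ)) : Prop where
  inj : Function.Injective ch
  surj : ∀ μ : ↥T →* ℂˣ, (∀ t, μ t ^ 5 = 1) → ∃ v, μ = ch v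
  pow : ∀ (v : V5) (k : ℕ) (t : ↥T), ch v t ^ k = ch (k • v) t
  act : ∀ (i : Fin 2) (v : V5) (t : Y) (ht : t ∈ T) (ht' : (n i)⁻¹ * t * n i ∈ T),
    ch v ⟨(n i)⁻¹ * t * n i, ht'⟩ = ch (rv i v) ⟨t, ht⟩

variable {W : Type*} {Y : Type u} [Group W] [Group Y] {cs : CoxeterSystem (CoxeterMatrix.B 2) W}
  {A : Fin 2 → Fin 2 → ℤ} {h : IsCartan (CoxeterMatrix.B 2) A} {p : ℕ} {T : Subgroup Y} {n : Fin 2 → Y}
  {X : (Fin 2 → ℤ) → Subgroup Y} {ch : V5 → (↥T →* ℂˣ)}

theorem Tor5.act_rp (H : Tor5 T n ch) (R : RGD cs h p T n X) {w : W} {g : Y} (hg : Rp cs R.nsys w g) (v : V5) :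
    ∀ (t : Y) (ht : t ∈ T) (ht' : g⁻¹ * t * g ∈ T), ch v ⟨g⁻¹ * t * g, ht'⟩ = ch (pi5 cs w v) ⟨t, ht⟩ := by
  have key : ∀ l : List (Fin 2), ∃ k, Rp cs R.nsys (cs.wordProd l) k ∧ ∀ (v : V5) (t : Y) (ht : t ∈ T)
      (ht' : k⁻¹ * t * k ∈ T), ch v ⟨k⁻¹ * t * k, ht'⟩ = ch (pi5 cs (cs.wordProd l) v) ⟨t, ht⟩ := by
    intro l
    induction l with
    | nil =>
      refine ⟨1, by rw [wordProd_nil]; exact rp_one, fun v t ht ht' => ?_⟩
      rw [wordProd_nil, map_one]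
      change _ = ch v ⟨t, ht⟩
      congr 1
      exact Subtype.ext (by simp)
    | cons i l ih =>
      obtain ⟨k, hk, e⟩ := ih
      refine ⟨n i * k, by rw [wordProd_cons]; exact (rp_simple cs R.nsys i).mul hk, fun v t ht ht' => ?_⟩
      have hm : (n i)⁻¹ * t * n i ∈ T := by
        have h1 := (R.nsys.norm i)
        have h2 := (Subgroup.mem_normalizer_iff.1 (inv_mem h1) t).1 ht
        rwa [inv_inv] at h2
      have e1 : (n i * k)⁻¹ * t * (n i * k) = k⁻¹ * ((n i)⁻¹ * t * n i) * k := by group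
      have hm' : k⁻¹ * ((n i)⁻¹ * t * n i) * k ∈ T := by rw [← e1]; exact ht'
      have e2 : (⟨(n i * k)⁻¹ * t * (n i * k), ht'⟩ : T) = ⟨k⁻¹ * ((n i)⁻¹ * t * n i) * k, hm'⟩ := Subtype.ext e1
      rw [e2, e v _ hm hm', H.act i _ t ht hm, wordProd_cons, map_mul, pi5_simple]
      rfl
  obtain ⟨l, rfl⟩ := cs.wordProd_surjective w
  obtain ⟨k, hk, e⟩ := key l
  intro t ht ht'
  have hz : k⁻¹ * g ∈ T := hk.unique hg
  have hm : k⁻¹ * t * k ∈ T := by
    have e1 : k⁻¹ * t * k = (k⁻¹ * g) * (g⁻¹ * t * g) * (k⁻¹ * g)⁻¹ := by group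
    rw [e1]
    exact mul_mem (mul_mem hz ht') (inv_mem hz)
  have e2 : (⟨g⁻¹ * t * g, ht'⟩ : T) = (⟨k⁻¹ * g, hz⟩)⁻¹ * ⟨k⁻¹ * t * k, hm⟩ * ⟨k⁻¹ * g, hz⟩ := Subtype.ext (by
    change g⁻¹ * t * g = (k⁻¹ * g)⁻¹ * (k⁻¹ * t * k) * (k⁻¹ * g)
    group)
  rw [e2, map_mul, map_mul, map_inv, mul_comm (ch v ⟨k⁻¹ * g, hz⟩)⁻¹, inv_mul_cancel_right, e v t ht hm]

theorem Tor5.tw_iff (H : Tor5 T n ch) (R : RGD cs h p T n X) {w : W} {g : Y} (hg : Rp cs R.nsys w g) (v v' : V5) :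
    Cj T (ch v) (ch v') g ↔ pi5 cs w v' = v := by
  constructor
  · intro hc
    refine H.inj (MonoidHom.ext fun t => ?_)
    have hm : g⁻¹ * (t : Y) * g ∈ T := by
      have h2 := (Subgroup.mem_normalizer_iff.1 (inv_mem hg.mem_normalizer) (t : Y)).1 t.2
      rwa [inv_inv] at h2
    rw [← H.act_rp R hg v' t t.2 hm]
    exact (hc t t.2 hm).symm
  · rintro rfl t ht ht'
    exact (H.act_rp R hg v' t ht ht').symm

theorem Tor5.classInner_HC (H : Tor5 T n ch) (R : RGD cs h p T n X) [Finite W] [Fintype Y] (hG : GG cs h T X = ⊤)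
    (v v' : V5) : classInner (HC R ∅ (chT cs h X (ch v))) (HC R ∅ (chT cs h X (ch v'))) =
      ({w : W | pi5 cs w v' = v}.ncard : ℂ) := by
  rw [H641.Gow.classInner_HC R hG ∅ (isIrr_chT _) (isIrr_chT _) (cusp_chT _)]
  congr 2
  ext w
  constructor
  · rintro ⟨-, g, hg, ht⟩
    exact (H.tw_iff R hg v v').1 (tw_chT_iff.1 ht)
  · intro hw
    obtain ⟨g, hg⟩ := exists_rp cs R.nsys w
    exact ⟨perm_empty w, g, hg, tw_chT_iff.2 ((H.tw_iff R hg v v').2 hw)⟩

/-- the induced character -/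
noncomputable def Ph [Finite W] [Fintype Y] (R : RGD cs h p T n X) (μ : ↥T →* ℂˣ) : Y → ℂ :=
  indFun (RGD.B cs h T X) fun b => ((infl R μ b : ℂˣ) : ℂ)

variable [Finite W] (R : RGD cs h p T n X)

theorem isCharacter_Ph [Fintype Y] (μ : ↥T →* ℂˣ) : IsCharacter Y (Ph R μ) :=
  OddOrderCharacters.IndRes.isCharacter_indFun _ (Core.isIrr_isCharacter (H595.Central.isIrr_hom (infl R μ)))

theorem Tor5.norm_Ph (H : Tor5 T n ch) [Fintype Y] (hG : GG cs h T X = ⊤) (v : V5) :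
    classInner (Ph R (ch v)) (Ph R (ch v)) = ({w : W | pi5 cs w v = v}.ncard : ℂ) := by
  have h1 := H.classInner_HC R hG v v
  rw [HC_empty] at h1
  exact h1

theorem Tor5.irr_Ph (H : Tor5 T n ch) [Fintype Y] (hG : GG cs h T X = ⊤) {v : V5} (hv : Om v) :
    IsIrrCharacter Y (Ph R (ch v)) := by
  refine Core.isIrr_of_classInner_self (isCharacter_Ph R _) ?_
  rw [H.norm_Ph R hG, stab_eq cs hv, Set.ncard_singleton, Nat.cast_one]

theorem Tor5.Ph_eq (H : Tor5 T n ch) [Fintype Y] (hG : GG cs h T X = ⊤) {v v' : V5} (hv : Om v) (hv' : Om v') :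
    Ph R (ch v) = Ph R (ch v') := by
  obtain ⟨w, hw⟩ := exists_trans' cs hv hv'
  obtain ⟨g, hg⟩ := exists_rp cs R.nsys w
  have h1 := HC_eq_of_tw R hG (isIrr_chT (cs := cs) (h := h) (X := X) (ch v)) (isIrr_chT (ch v')) (cusp_chT _)
    (cusp_chT _) (perm_empty w) hg (tw_chT_iff.2 ((H.tw_iff R hg v v').2 hw))
  rw [HC_empty, HC_empty] at h1
  exact h1

/-- `Gal` -/
theorem Tor5.Ph_pow (H : Tor5 T n ch) [Fintype Y] (hG : GG cs h T X = ⊤) {v : V5} (hv : Om v) {k : ℕ}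
    (hk : k.Coprime (Nat.card Y)) (g : Y) : Ph R (ch v) (g ^ k) = Ph R (ch v) g := by
  have h5 : ¬ 5 ∣ k := by
    intro h5
    -- `T` has an element of order divisible by five
    obtain ⟨t, ht⟩ : ∃ t, ch v t ≠ 1 := by
      by_contra hcon
      push Not at hcon
      have h1 : ch v = ch 0 := MonoidHom.ext fun t => by
        rw [hcon t]
        have h2 := H.pow 0 0 t
        rw [pow_zero, zero_smul] at h2
        exact h2
      exact hv.1 (congrArg Prod.fst (H.inj h1))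
    have h2 : ch v t ^ 5 = 1 := by
      rw [H.pow]
      have h3 : 5 • v = 0 • v := by
        have h4 : ∀ v : V5, 5 • v = 0 • v := by decide
        exact h4 v
      rw [h3, ← H.pow, pow_zero]
    have : Fact (Nat.Prime 5) := ⟨by norm_num⟩
    have h3 : orderOf (ch v t) = 5 := orderOf_eq_prime h2 ht
    have h4 : 5 ∣ Nat.card Y := by
      rw [← h3]
      exact ((orderOf_map_dvd (ch v) t).trans (orderOf_dvd_natCard t)).trans (Subgroup.card_subgroup_dvd_card T)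
    have h6 : 5 ∣ 1 := by
      rw [← hk]
      exact Nat.dvd_gcd h5 h4
    omega
  refine (indFun_pow' (f' := fun b => ((infl R (ch (k • v)) b : ℂˣ) : ℂ)) hk (fun b => ?_) g).trans
    (congrFun (H.Ph_eq R hG (Om_smul hv h5) hv) g)
  rw [map_pow]
  exact congrArg Units.val (H.pow v k (projT R b))

/-- automorphisms fixing `B` -/
theorem Tor5.exists_aut (H : Tor5 T n ch) [Fintype Y] [hp : Fact p.Prime] (hp5 : p ≠ 5) (v : V5) (σ : Y ≃* Y)
    (hB : ∀ x, σ x ∈ RGD.B cs h T X ↔ x ∈ RGD.B cs h T X) :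
    ∃ v', ∀ g, Ph R (ch v) (σ g) = Ph R (ch v') g := by
  let σB : ↥(RGD.B cs h T X) →* ↥(RGD.B cs h T X) :=
    { toFun := fun b => ⟨σ (b : Y), (hB b).2 b.2⟩
      map_one' := Subtype.ext (map_one σ)
      map_mul' := fun a b => Subtype.ext (map_mul σ (a : Y) (b : Y)) }
  let lam : ↥(RGD.B cs h T X) →* ℂˣ := (infl R (ch v)).comp σB
  have h5 : ∀ t : T, ch v t ^ 5 = 1 := by
    intro t
    rw [H.pow]
    have h4 : ∀ v : V5, 5 • v = 0 • v := by decide
    rw [h4, ← H.pow, pow_zero]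
  have h5' : ∀ b, lam b ^ 5 = 1 := fun b => h5 (projT R (σB b))
  have hlam : ∀ u (hu : u ∈ RGD.Sup X (RGD.Pos cs h)), lam ⟨u, RGD.U_le_B hu⟩ = 1 := by
    intro u hu
    obtain ⟨k, hk⟩ := R.isPGroup_Upos ⟨u, hu⟩
    have h1 : u ^ p ^ k = 1 := congrArg Subtype.val hk
    have h2 : lam ⟨u, RGD.U_le_B hu⟩ ^ p ^ k = 1 := by
      rw [← map_pow, show (⟨u, RGD.U_le_B hu⟩ : ↥(RGD.B cs h T X)) ^ p ^ k = 1 from Subtype.ext h1, map_one]
    have h3 : Nat.Coprime (p ^ k) 5 := Nat.Coprime.pow_left k ((Nat.coprime_primes hp.out (by norm_num)).2 hp5)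
    rw [← orderOf_eq_one_iff]
    exact Nat.dvd_one.1 (h3 ▸ Nat.dvd_gcd (orderOf_dvd_of_pow_eq_one h2) (orderOf_dvd_of_pow_eq_one (h5' _)))
  obtain ⟨v', hv'⟩ := H.surj (lam.comp (Subgroup.inclusion RGD.T_le_B)) fun t => h5' _
  refine ⟨v', fun g => ?_⟩
  refine indFun_aut' (f' := fun b => ((infl R (ch v') b : ℂˣ) : ℂ)) σ hB (fun x hx hx' => ?_) g
  rw [← hv', infl_res R hlam]
  rfl

theorem Tor5.Ph_aut (H : Tor5 T n ch) [Fintype Y] [hp : Fact p.Prime] (hp5 : p ≠ 5) (hG : GG cs h T X = ⊤) {v : V5}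
    (hv : Om v) (σ : Y ≃* Y) (hB : ∀ x, σ x ∈ RGD.B cs h T X ↔ x ∈ RGD.B cs h T X) (g : Y) :
    Ph R (ch v) (σ g) = Ph R (ch v) g := by
  obtain ⟨v', hv'⟩ := H.exists_aut R hp5 v σ hB
  have h1 : Ph R (ch v) ∘ σ = Ph R (ch v') := funext hv'
  have h2 : Om v' := by
    by_contra hcon
    apply ncard_ne_one cs hcon
    have h3 := H.norm_Ph R hG v
    have h4 := H.norm_Ph R hG v'
    rw [← h1] at h4
    have h5 := classInner_comp_equiv σ.toEquiv (Ph R (ch v)) (Ph R (ch v))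
    have h6 : classInner (Ph R (ch v) ∘ σ) (Ph R (ch v) ∘ σ) = classInner (Ph R (ch v)) (Ph R (ch v)) := h5
    rw [h6, h3, stab_eq cs hv, Set.ncard_singleton] at h4
    exact_mod_cast h4.symm
  rw [hv', H.Ph_eq R hG h2 hv]

include R in
theorem index_B [Finite Y] [Fact p.Prime] [IsSimpleGroup Y] (hG : GG cs h T X = ⊤) :
    ¬ p ∣ (RGD.B cs h T X).index := by
  obtain ⟨U, hU, -⟩ := H76.OC.exists_sylow_U R hG
  intro h1
  apply U.not_dvd_index
  refine h1.trans (Subgroup.index_dvd_of_le ?_)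
  rw [hU]
  exact fun u hu => RGD.U_le_B hu

/-- **the row** -/
theorem row2_of_tor5 {h : IsCartan (CoxeterMatrix.B 2) A} [Finite Y] [IsSimpleGroup Y] (R : RGD cs h 2 T n X)
    (hG : GG cs h T X = ⊤) (H : Tor5 T n ch) : Row2 Y := by
  classical
  have : Fact (Nat.Prime 2) := ⟨Nat.prime_two⟩
  let _ : Fintype Y := Fintype.ofFinite Y
  have hΦ : IsIrrCharacter ↥(RGD.B cs h T X) fun b => ((infl R (ch (1, 2)) b : ℂˣ) : ℂ) := H595.Central.isIrr_hom _
  refine H655.R2.row2_of_ind (RGD.B cs h T X) (index_B R hG) hΦ ?_ ?_ ?_ ?_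
  · intro h1
    have h2 : ch (1, 2) = ch 0 := MonoidHom.ext fun t => by
      have h3 := congrFun h1 ⟨(t : Y), RGD.T_le_B t.2⟩
      have h4 : infl R (ch (1, 2)) ⟨(t : Y), RGD.T_le_B t.2⟩ = ch (1, 2) t := infl_T R _ t.2 _
      have h5 : ch (1, 2) t = 1 := by
        rw [← h4]
        exact Units.ext h3
      have h6 := H.pow 0 0 t
      rw [pow_zero, zero_smul] at h6
      rw [h5, h6]
    have h7 := congrArg Prod.fst (H.inj h2)
    revert h7
    decide
  · rw [Cfsg.Agent.Blocks.Basic.charDegree_of_eq (n := 1) (by rw [map_one]; simp)]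
    norm_num
  · intro inst θ hθ _ hne k hk s
    have : inst = Fintype.ofFinite Y := Subsingleton.elim _ _
    subst this
    have h1 : IsIrrCharacter Y (Ph R (ch (1, 2))) := H.irr_Ph R hG Om_one_two
    have h2 : Ph R (ch (1, 2)) = θ := by
      by_contra hcon
      apply hne
      exact Core.classInner_irr_ne h1 hθ hcon
    rw [← h2]
    exact H.Ph_pow R hG Om_one_two hk s
  · intro inst α hα s
    have : inst = Fintype.ofFinite Y := Subsingleton.elim _ _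
    subst this
    have hA : IsPGroup 2 (Subgroup.zpowers α) := by
      obtain ⟨k, hk⟩ := hα
      rintro ⟨_, j, rfl⟩
      refine ⟨k, Subtype.ext ?_⟩
      change (α ^ j) ^ 2 ^ k = 1
      rw [← zpow_natCast, ← zpow_mul, mul_comm, zpow_mul, zpow_natCast, hk, one_zpow]
    obtain ⟨c, hc⟩ := H76.OC.exists_conj_perm R hG hA
    obtain ⟨β, h1, -, -, h4, -⟩ := hc α (Subgroup.mem_zpowers α)
    have hB : ∀ x, β x ∈ RGD.B cs h T X ↔ x ∈ RGD.B cs h T X := by
      intro x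
      constructor
      · intro hx
        rw [← h4] at hx
        obtain ⟨y, hy, e⟩ := hx
        rwa [← β.injective e]
      · intro hx
        rw [← h4]
        exact ⟨x, hx, rfl⟩
    have hcl : IsClassFunction Y (Ph R (ch (1, 2))) := Core.isCharacter_isClassFunction (isCharacter_Ph R _)
    have h5 := H.Ph_aut R (by norm_num) hG Om_one_two β hB (c * s * c⁻¹)
    have h6 : β (c * s * c⁻¹) = c * α s * c⁻¹ := by
      rw [h1]
      change c * α (c⁻¹ * (c * s * c⁻¹) * c) * c⁻¹ = _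
      congr 2
      congr 1
      group
    rw [h6] at h5
    have h7 : ∀ g : Y, Ph R (ch (1, 2)) (c * g * c⁻¹) = Ph R (ch (1, 2)) g := fun g => hcl g c
    rw [h7, h7] at h5
    exact h5

end Cfsg.Agent.H151.OC2
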