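import Cfsg.Agent.H151.OC2.Row
import Cfsg.Agent.H151.OC2.Chars
import Cfsg.Agent.H148.SP.Main

/-!
# S4829, `Row2` for `Sp_4(2^f)`, `4 ∣ f` (helper151)
-/

set_option autoImplicit false
set_option linter.unusedSectionVars false

namespace Cfsg.Agent.H151.OC2

open Cfsg Cfsg.Agent.ClassicalGeometry.SympBasic
open Cfsg.Agent.ChevalleyStructure.CoxeterGeom Cfsg.Agent.Tits.Roots
open Cfsg.Agent.Nodes Cfsg.Agent.Nodes.TypeC Cfsg.Agent.Nodes.WittRoot Cfsg.Agent.Nodes.WittRGD Cfsg.Agent.Nodes.WittAll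
  Cfsg.Agent.Nodes.WittU
open Cfsg.Agent.Nodes.Comb Cfsg.Agent.Nodes.Reps Cfsg.Agent.Nodes.BNOf Cfsg.Agent.Nodes.RGDLib Cfsg.Agent.Nodes.Bruhat
open Cfsg.Agent.TitsThree Cfsg.Agent.TitsThree.Siegel Cfsg.Agent.TitsThree.WittFrame
  Cfsg.Agent.TitsThree.WittWeyl Cfsg.Agent.TitsThree.SpIdent Cfsg.Agent.TitsThree.FrameCN
open Cfsg.Agent.H148.GG Cfsg.Agent.Omega.EH3.Kf Cfsg.Agent.Omega.EH3.Kf.Lev
open Cfsg.Agent.H148.SP Cfsg.Agent.H770.CY

section Torus

variable {m : ℕ} {F : Type*} [Field F]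

theorem fs_one (x : Fin m × Bool) : fs (1 : Fin m → Fˣ) x = 1 := by
  unfold fs
  split_ifs <;> simp

theorem fs_mul (l l' : Fin m → Fˣ) (x : Fin m × Bool) : fs (l * l') x = fs l x * fs l' x := by
  unfold fs
  split_ifs
  · rfl
  · rw [Pi.mul_apply, mul_inv]

theorem dg_one : dg (1 : Fin m → Fˣ) = 1 := ext_b fun x => by
  rw [dg_b, fs_one, Units.val_one, one_smul]
  rfl

theorem dg_mul (l l' : Fin m → Fˣ) : dg (l * l') = dg l * dg l' := ext_b fun x => by
  rw [mul_apply', dg_b, dg_b, map_smul, dg_b, fs_mul, smul_smul, Units.val_mul, mul_comm]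

/-- the torus -/
noncomputable def tau (m : ℕ) (F : Type*) [Field F] : (Fin m → Fˣ) →* PSp m F where
  toFun l := toPSp ⟨dg l, isIso_dg l⟩
  map_one' := by
    have h1 : (⟨dg 1, isIso_dg 1⟩ : isos (form m F)) = 1 := Subtype.ext dg_one
    rw [h1, map_one]
  map_mul' l l' := by
    rw [← map_mul]
    congr 1
    exact Subtype.ext (dg_mul l l')

theorem tau_apply (l : Fin m → Fˣ) : tau m F l = toPSp ⟨dg l, isIso_dg l⟩ := rfl

theorem tau_inj [CharP F 2] : Function.Injective (tau m F) := by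
  rw [injective_iff_map_eq_one]
  intro l hl
  obtain ⟨a, ha2, ha⟩ := exists_smul_of_toPSp_eq_one hl
  have ha1 : a = 1 := by
    have h1 : (a - 1) ^ 2 = 0 := by
      have h2 : (2 : F) = 0 := CharTwo.two_eq_zero
      linear_combination ha2 - (a - 1) * h2
    exact sub_eq_zero.1 (pow_eq_zero_iff (two_ne_zero) |>.1 h1)
  funext i
  have h1 := ha ((frame m F).b (i, true))
  have h2 : dg l ((frame m F).b (i, true)) = (fs l (i, true) : F) • (frame m F).b (i, true) := dg_b l (i, true)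
  have h3 : ((fs l (i, true) : Fˣ) : F) • (frame m F).b (i, true) = a • (frame m F).b (i, true) := h2.symm.trans h1
  have h4 : (((fs l (i, true) : Fˣ) : F) - a) • (frame m F).b (i, true) = 0 := by rw [sub_smul, h3, sub_self]
  have h5 := sub_eq_zero.1 ((smul_eq_zero.1 h4).resolve_right (b_ne_zero _))
  rw [ha1] at h5
  exact Units.ext h5

theorem tau_range : (tau m F).range = WittModel.T (KInstSp.model m F) := by
  ext t
  rw [MonoidHom.mem_range, mem_T]
  constructor
  · rintro ⟨l, rfl⟩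
    exact ⟨dg l, isIso_dg l, dg_mem_tor l, rfl⟩
  · rintro ⟨g, hg, hT, rfl⟩
    choose a ha0 ha using fun i : Fin m => hT.2 (i, true)
    refine ⟨fun i => Units.mk0 (a i) (ha0 i), ?_⟩
    rw [tau_apply]
    congr 1
    refine Subtype.ext (ext_b fun x => ?_)
    obtain ⟨i, s⟩ := x
    change dg _ _ = g _
    rw [dg_b]
    cases s
    · obtain ⟨b, -, hb⟩ := hT.2 (i, false)
      have h1 := scal_mul hg (x := (i, true)) (a := a i) (b := b) (ha i) hb
      have hb' : g ((frame m F).b (i, false)) = b • (frame m F).b (i, false) := hb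
      rw [hb']
      congr 1
      simp only [fs, Bool.false_eq_true, if_false, Units.val_inv_eq_inv_val, Units.val_mk0]
      exact (eq_inv_of_mul_eq_one_right h1).symm
    · have ha' : g ((frame m F).b (i, true)) = a i • (frame m F).b (i, true) := ha i
      rw [ha']
      rfl

/-- the representatives -/
noncomputable def nr (m : ℕ) (F : Type*) [Field F] [CharP F 2] (i : Fin m) : PSp m F :=
  (KInstSp.model m F).φ ⟨nn (frame m F) (adm 1) i,
    nn_mem (have : Fact (Nat.Prime 2) := ⟨Nat.prime_two⟩; AmbT.of_amb (amb_Sp (F := F) (m := m)) 2) (adm 1) i⟩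

/-- conjugation by a representative -/
theorem tau_conj [CharP F 2] (i : Fin m) (l l' : Fin m → Fˣ) (h : ∀ x, fs l' x = fs l (sg i x)) :
    (nr m F i)⁻¹ * tau m F l * nr m F i = tau m F l' := by
  have key : dg l * nn (frame m F) (adm 1) i = nn (frame m F) (adm 1) i * dg l' := by
    refine ext_b fun x => ?_
    have h0 : ((adm 1 : (frame m F).Adm)).c ≠ 0 := one_ne_zero
    obtain ⟨c, -, hc⟩ := mono_nn h0 i x
    rw [mul_apply', mul_apply', hc, dg_b, map_smul, map_smul, hc, dg_b, h, smul_smul, smul_smul, mul_comm]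
  have h1 : tau m F l * nr m F i = nr m F i * tau m F l' := by
    have e1 : ∀ a b c d : isos (form m F), a * b = c * d → toPSp a * toPSp b = toPSp c * toPSp d := by
      intro a b c d e
      rw [← map_mul, ← map_mul, e]
    exact e1 _ _ _ _ (Subtype.ext key)
  rw [mul_assoc, h1, inv_mul_cancel_left]

end Torus

/-- the torus of `PSp_4` -/
theorem exists_tor5 {F : Type*} [Field F] [Finite F] [CharP F 2] (h5 : 5 ∣ Nat.card Fˣ) :
    ∃ ch, Tor5 (WittModel.T (KInstSp.model 2 F)) (nr 2 F) ch := by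
  obtain ⟨g, hg⟩ := IsCyclic.exists_generator (α := Fˣ)
  obtain ⟨κ, hκ⟩ := exists_kappa hg (by rw [orderOf_eq_card_of_forall_mem_zpowers hg]; exact h5)
  have hm : ∀ l, tau 2 F l ∈ WittModel.T (KInstSp.model 2 F) := fun l => by
    rw [← tau_range]
    exact ⟨l, rfl⟩
  let te : (Fin 2 → Fˣ) ≃* ↥(WittModel.T (KInstSp.model 2 F)) :=
    MulEquiv.ofBijective ((tau 2 F).codRestrict _ hm) ⟨fun a b hab => tau_inj (congrArg Subtype.val hab), fun t => by
      obtain ⟨l, hl⟩ : (t : PSp 2 F) ∈ (tau 2 F).range := (le_of_eq (tau_range (m := 2) (F := F)).symm) t.2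
      exact ⟨l, Subtype.ext hl⟩⟩
  have hte : ∀ l, ((te l : ↥(WittModel.T (KInstSp.model 2 F))) : PSp 2 F) = tau 2 F l := fun l => rfl
  refine ⟨fun v => (chl κ v).comp te.symm.toMonoidHom, ?_, ?_, ?_, ?_⟩
  · intro v v' h
    refine chl_inj hκ (MonoidHom.ext fun l => ?_)
    have h1 := congrArg (fun f => f (te l)) h
    change chl κ v (te.symm (te l)) = chl κ v' (te.symm (te l)) at h1
    rw [te.symm_apply_apply] at h1
    rw [h1]
  · intro μ hμ
    obtain ⟨v, hv⟩ := chl_surj hκ hg (μ.comp te.toMonoidHom) fun l => hμ (te l)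
    refine ⟨v, MonoidHom.ext fun t => ?_⟩
    rw [← hv]
    change μ t = μ (te (te.symm t))
    rw [te.apply_symm_apply]
  · intro v k t
    exact chl_pow κ v k _
  · intro i v t ht ht'
    have key : ∀ (l l' : Fin 2 → Fˣ) (h : ∀ x, fs l' x = fs l (sg i x)) (h2 : te l = ⟨t, ht⟩),
        te.symm ⟨(nr 2 F i)⁻¹ * t * nr 2 F i, ht'⟩ = l' := by
      intro l l' h h2
      rw [MulEquiv.symm_apply_eq]
      refine Subtype.ext ?_
      rw [hte, ← tau_conj i l l' h]
      change (nr 2 F i)⁻¹ * t * nr 2 F i = _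
      rw [← hte, h2]
    have h2 : te (te.symm ⟨t, ht⟩) = ⟨t, ht⟩ := te.apply_symm_apply _
    generalize te.symm ⟨t, ht⟩ = l at h2
    have h3 : te.symm ⟨t, ht⟩ = l := by rw [MulEquiv.symm_apply_eq, h2]
    change chl κ v (te.symm _) = chl κ (rv i v) (te.symm _)
    rw [h3]
    have hi : i = 0 ∨ i = 1 := by fin_cases i <;> simp
    rcases hi with rfl | rfl
    · rw [key l ![l 1, l 0] (fun x => by
        obtain ⟨j, s⟩ := x
        fin_cases j <;> cases s <;> simp [fs, sg]) h2]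
      exact chl_zero v l _ rfl rfl
    · rw [key l ![l 0, (l 1)⁻¹] (fun x => by
        obtain ⟨j, s⟩ := x
        fin_cases j <;> cases s <;> simp [fs, sg]) h2]
      exact chl_one v l _ rfl rfl

/-- **`Row2 (PSp_4(F))`**, `|F| = 2 ^ f`, `5 ∣ |F| - 1` -/
theorem row2_five {F : Type} [Field F] [Finite F] [CharP F 2] (h5 : 5 ∣ Nat.card Fˣ) : Row2 (PSp 2 F) := by
  have : Finite (CoxeterMatrix.B 2).Group := finite_W (CoxeterMatrix.B 2).toCoxeterSystem
  have := Fintype.ofFinite F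
  have hF : 3 ≤ Fintype.card F := by
    have h1 : Nat.card Fˣ ≤ Nat.card F := Nat.card_le_card_of_injective _ Units.val_injective
    have h2 := Nat.le_of_dvd Nat.card_pos h5
    rw [Nat.card_eq_fintype_card (α := F)] at h1
    omega
  have hs : IsSimpleGroup (PSp 2 F) := Cfsg.Agent.S0270.result 2 le_rfl fun _ => hF
  obtain ⟨ch, H⟩ := exists_tor5 h5
  exact row2_of_tor5 (rgd (m := 2) (F := F) (CoxeterMatrix.B 2).toCoxeterSystem) (GG_eq_top (by norm_num) _) H

/-- **`Row2 (PSp_4(2^f))`, `4 ∣ f`** -/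
theorem row2_four_dvd {F : Type} [Field F] [Finite F] [CharP F 2] {f : ℕ} (hf : Nat.card F = 2 ^ f) (h4 : 4 ∣ f)
    (h0 : f ≠ 0) : Row2 (PSp 2 F) := by
  apply row2_five
  obtain ⟨e, rfl⟩ := h4
  have h1 : Nat.card Fˣ = 2 ^ (4 * e) - 1 := by
    rw [Nat.card_units, hf]
  rw [h1, pow_mul]
  have h2 := Nat.sub_dvd_pow_sub_pow (2 ^ 4) 1 e
  rw [one_pow] at h2
  exact dvd_trans (by norm_num) h2

end Cfsg.Agent.H151.OC2
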